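import Groth.Agent.FlatAboveCP.Main

/-! The loci above the closed points along a base change of a local homomorphism. -/

set_option autoImplicit false
set_option linter.style.haveILetI false
set_option backward.isDefEq.respectTransparency false
set_option backward.isDefEq.respectTransparency.types false

universe u

open TensorProduct IsLocalRing

noncomputable section

namespace Groth.Agent.FlatAboveCP

/-- The map between the base changes of `B → C` along `A → A'`. -/
theorem exists_desc {A A' B C B' C' : Type u} [CommRing A] [CommRing A'] [CommRing B] [CommRing C] [CommRing B']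
    [CommRing C'] [Algebra A A'] [Algebra A B] [Algebra B C] [Algebra A C] [IsScalarTower A B C]
    [Algebra B B'] [Algebra A' B'] [Algebra A B'] [IsScalarTower A B B'] [IsScalarTower A A' B']
    [Algebra.IsPushout A B A' B'] [Algebra C C'] [Algebra A' C'] [Algebra A C'] [IsScalarTower A C C']
    [IsScalarTower A A' C'] :
    ∃ φ : B' →+* C', (∀ b, φ (algebraMap B B' b) = algebraMap C C' (algebraMap B C b)) ∧
      ∀ a, φ (algebraMap A' B' a) = algebraMap A' C' a := by
  let f : B →ₐ[A] C' := (IsScalarTower.toAlgHom A C C').comp (IsScalarTower.toAlgHom A B C)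
  let g : A' →ₐ[A] C' := IsScalarTower.toAlgHom A A' C'
  exact ⟨(Algebra.pushoutDesc B' f g fun _ _ => mul_comm _ _).toRingHom,
    fun b => Algebra.pushoutDesc_left B' f g _ b, fun a => Algebra.pushoutDesc_right B' f g _ a⟩

variable {B C : Type u} [CommRing B] [IsLocalRing B] [CommRing C] [IsLocalRing C] [Algebra B C]
  [IsLocalHom (algebraMap B C)] {B' C' : Type u} [CommRing B'] [CommRing C'] [Algebra B B'] [Algebra C C']
  [Algebra B' C'] [Algebra B C'] [IsScalarTower B B' C'] [IsScalarTower B C C']

/-- A prime above the closed point of `B` lifts to a prime above the closed point of `C`. -/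
theorem exists_prime_over [Algebra.IsPushout B C B' C'] (q : Ideal B') [q.IsPrime]
    (hq : (maximalIdeal B).map (algebraMap B B') ≤ q) :
    ∃ p : Ideal C', p.IsPrime ∧ (maximalIdeal C).map (algebraMap C C') ≤ p ∧ p.comap (algebraMap B' C') = q := by
  classical
  let β : B' →+* (FractionRing (B' ⧸ q)) := (algebraMap (B' ⧸ q) (FractionRing (B' ⧸ q))).comp (Ideal.Quotient.mk q)
  have hker : RingHom.ker β = q := by
    ext x
    simp [β, RingHom.mem_ker, IsFractionRing.injective (B' ⧸ q) (FractionRing (B' ⧸ q)) |>.eq_iff' (map_zero _), Ideal.Quotient.eq_zero_iff_mem]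
  let γ : (ResidueField B) →+* (FractionRing (B' ⧸ q)) := Ideal.Quotient.lift (maximalIdeal B) (β.comp (algebraMap B B')) fun b hb => by
    rw [RingHom.comp_apply, ← RingHom.mem_ker, hker]
    exact hq (Ideal.mem_map_of_mem _ hb)
  letI : Algebra (ResidueField B) (FractionRing (B' ⧸ q)) := γ.toAlgebra
  haveI : Nontrivial (ResidueField C ⊗[(ResidueField B)] (FractionRing (B' ⧸ q))) := inferInstance
  obtain ⟨m, hm⟩ := Ideal.exists_maximal (ResidueField C ⊗[(ResidueField B)] (FractionRing (B' ⧸ q)))
  let π : (ResidueField C ⊗[(ResidueField B)] (FractionRing (B' ⧸ q))) →+* (ResidueField C ⊗[(ResidueField B)] (FractionRing (B' ⧸ q))) ⧸ m := Ideal.Quotient.mk m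
  letI : Field ((ResidueField C ⊗[(ResidueField B)] (FractionRing (B' ⧸ q))) ⧸ m) := Ideal.Quotient.field m
  let jC : C →+* (ResidueField C ⊗[(ResidueField B)] (FractionRing (B' ⧸ q))) ⧸ m :=
    π.comp ((Algebra.TensorProduct.includeLeftRingHom).comp (residue C))
  let jB : B' →+* (ResidueField C ⊗[(ResidueField B)] (FractionRing (B' ⧸ q))) ⧸ m :=
    π.comp ((Algebra.TensorProduct.includeRight (R := ResidueField B) (A := ResidueField C) (B := (FractionRing (B' ⧸ q)))).toRingHom.comp β)
  have hcompat : ∀ b, jC (algebraMap B C b) = jB (algebraMap B B' b) := fun b => by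
    show π (residue C (algebraMap B C b) ⊗ₜ[(ResidueField B)] (1 : (FractionRing (B' ⧸ q)))) = π ((1 : ResidueField C) ⊗ₜ[(ResidueField B)] β (algebraMap B B' b))
    congr 1
    have h1 : residue C (algebraMap B C b) = (residue B b) • (1 : ResidueField C) := by
      rw [Algebra.smul_def, _root_.mul_one]; rfl
    have h2 : β (algebraMap B B' b) = (residue B b) • (1 : (FractionRing (B' ⧸ q))) := by
      rw [Algebra.smul_def, _root_.mul_one]; rfl
    rw [h1, h2, TensorProduct.smul_tmul]
  letI : Algebra B ((ResidueField C ⊗[(ResidueField B)] (FractionRing (B' ⧸ q))) ⧸ m) := (jC.comp (algebraMap B C)).toAlgebra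
  let f : C →ₐ[B] (ResidueField C ⊗[(ResidueField B)] (FractionRing (B' ⧸ q))) ⧸ m := { jC with commutes' := fun _ => rfl }
  let g : B' →ₐ[B] (ResidueField C ⊗[(ResidueField B)] (FractionRing (B' ⧸ q))) ⧸ m := { jB with commutes' := fun b => (hcompat b).symm }
  let h := Algebra.pushoutDesc C' f g (fun _ _ => mul_comm _ _)
  refine ⟨RingHom.ker h.toRingHom, RingHom.ker_isPrime _, ?_, ?_⟩
  · rw [Ideal.map_le_iff_le_comap]
    intro c hc
    show h (algebraMap C C' c) = 0
    rw [Algebra.pushoutDesc_left]
    show π (residue C c ⊗ₜ[(ResidueField B)] (1 : (FractionRing (B' ⧸ q)))) = 0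
    rw [(residue_eq_zero_iff c).2 hc, zero_tmul, map_zero]
  · ext x
    rw [Ideal.mem_comap, RingHom.mem_ker]
    show h (algebraMap B' C' x) = 0 ↔ x ∈ q
    rw [Algebra.pushoutDesc_right]
    show (π.comp (Algebra.TensorProduct.includeRight (R := ResidueField B) (A := ResidueField C) (B := (FractionRing (B' ⧸ q)))).toRingHom) (β x) = 0 ↔ _
    rw [map_eq_zero, ← RingHom.mem_ker, hker]

end Groth.Agent.FlatAboveCP
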