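import Mathlib
import Groth.Prelude.Def_FlatCA
import Groth.Agent.FlatModel.Local

/-! Transfer of flatness at a set of primes along flat or integral ring maps. -/

set_option autoImplicit false
set_option linter.style.haveILetI false
set_option backward.isDefEq.respectTransparency false
set_option backward.isDefEq.respectTransparency.types false

universe u

open TensorProduct

noncomputable section

namespace Groth.Agent.FlatAboveCP

variable {A : Type u} [CommRing A]

theorem flatAt_iff {B : Type u} [CommRing B] [Algebra A B] (q : Ideal B) [q.IsPrime] (M : Type u)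
    [AddCommGroup M] [Module B M] [Module A M] [IsScalarTower A B M] :
    FlatCA.FlatAt A q M ↔
      ∀ J : Ideal A, ∀ y : M ⊗[A] J, J.subtype.lTensor M y = 0 → ∃ s ∈ q.primeCompl, s • y = 0 :=
  FlatModel.flat_localized_iff q.primeCompl (LocalizedModule.mkLinearMap q.primeCompl M)

variable {B C : Type u} [CommRing B] [CommRing C] [Algebra A B] [Algebra A C] [Algebra B C] [IsScalarTower A B C]
  {M N : Type u} [AddCommGroup M] [Module B M] [Module A M] [IsScalarTower A B M]
  [AddCommGroup N] [Module C N] [Module A N] [IsScalarTower A C N] [Module B N] [IsScalarTower B C N]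

/-- The annihilator of `1 ⊗ k` in a flat extension is extended from the annihilator of `k`. -/
theorem mem_map_annihilator [Module.Flat B C] {K : Type u} [AddCommGroup K] [Module B K] (k : K) (t : C)
    (h : t • ((1 : C) ⊗ₜ[B] k) = 0) :
    t ∈ Ideal.map (algebraMap B C) (LinearMap.ker (LinearMap.toSpanSingleton B K k) : Ideal B) := by
  let I : Ideal B := LinearMap.ker (LinearMap.toSpanSingleton B K k)
  have hex : Function.Exact (I.subtype : I →ₗ[B] B) (LinearMap.toSpanSingleton B K k) :=
    LinearMap.exact_subtype_ker_map _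
  have h0 : (LinearMap.toSpanSingleton B K k).lTensor C (t ⊗ₜ (1 : B)) = 0 := by
    rw [LinearMap.lTensor_tmul, LinearMap.toSpanSingleton_apply_one]
    rw [smul_tmul', smul_eq_mul, mul_one] at h
    exact h
  obtain ⟨z, hz⟩ := (Module.Flat.lTensor_exact C hex _).1 h0
  have e : TensorProduct.rid B C (I.subtype.lTensor C z) = t := by rw [hz]; simp
  rw [← e]
  clear e hz h0 h
  induction z using TensorProduct.induction_on with
  | zero => simp
  | tmul c i =>
    simp only [LinearMap.lTensor_tmul, TensorProduct.rid_tmul, Submodule.subtype_apply]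
    rw [Algebra.smul_def]
    exact Ideal.mul_mem_right _ _ (Ideal.mem_map_of_mem _ i.2)
  | add y z hy hz => simp only [map_add]; exact add_mem hy hz

/-- Flatness at a set of primes is transferred along a flat base change. -/
theorem flatAt_iff_of_flat [Module.Flat B C] (g : M →ₗ[B] N) (hg : IsBaseChange C g)
    (PB : Ideal B → Prop) (PC : Ideal C → Prop)
    (hcomap : ∀ p : Ideal C, p.IsPrime → PC p → PB (p.comap (algebraMap B C)))
    (hlift : ∀ q : Ideal B, q.IsPrime → PB q → ∃ p : Ideal C, p.IsPrime ∧ PC p ∧ p.comap (algebraMap B C) = q) :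
    (∀ (q : Ideal B) [q.IsPrime], PB q → FlatCA.FlatAt A q M) ↔
      (∀ (p : Ideal C) [p.IsPrime], PC p → FlatCA.FlatAt A p N) := by
  let Φ : ∀ (X : Type u) [AddCommGroup X] [Module A X], C ⊗[B] (M ⊗[A] X) ≃ₗ[C] N ⊗[A] X := fun X _ _ =>
    (AlgebraTensorModule.assoc A B C C M X).symm ≪≫ₗ AlgebraTensorModule.congr hg.equiv (LinearEquiv.refl A X)
  let uM : ∀ J : Ideal A, M ⊗[A] J →ₗ[B] M ⊗[A] A := fun J => AlgebraTensorModule.lTensor B M J.subtype
  have hcomm : ∀ (J : Ideal A) (z : C ⊗[B] (M ⊗[A] J)),
      J.subtype.lTensor N (Φ J z) = Φ A ((uM J).lTensor C z) := by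
    intro J z
    induction z using TensorProduct.induction_on with
    | zero => simp
    | tmul c w =>
      induction w using TensorProduct.induction_on with
      | zero => simp
      | tmul m j => simp [Φ, uM]
      | add y z hy hz => simp only [tmul_add, map_add, hy, hz]
    | add y z hy hz => simp only [map_add, hy, hz]
  constructor
  · intro h p _ hp
    haveI : (p.comap (algebraMap B C)).IsPrime := Ideal.IsPrime.comap _
    have hq := (flatAt_iff _ M).1 (h _ (hcomap p inferInstance hp))
    rw [flatAt_iff]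
    intro J y hy
    obtain ⟨z, rfl⟩ := (Φ J).surjective y
    have h0 : (uM J).lTensor C z = 0 := by
      apply (Φ A).injective
      rw [← hcomm, hy, map_zero]
    obtain ⟨w, rfl⟩ := (Module.Flat.lTensor_exact C (LinearMap.exact_subtype_ker_map (uM J)) _).1 h0
    clear h0 hy
    induction w using TensorProduct.induction_on with
    | zero => exact ⟨1, one_mem _, by simp⟩
    | tmul c v =>
      obtain ⟨s, hs, hsv⟩ := hq J v.1 v.2
      refine ⟨algebraMap B C s, hs, ?_⟩
      rw [← map_smul, LinearMap.lTensor_tmul, smul_tmul', smul_eq_mul, ← Algebra.smul_def, smul_tmul, Submodule.subtype_apply,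
        hsv, tmul_zero, map_zero]
    | add y z hy hz =>
      obtain ⟨s, hs, hsy⟩ := hy
      obtain ⟨t, ht, htz⟩ := hz
      refine ⟨s * t, Submonoid.mul_mem _ hs ht, ?_⟩
      have e1 := congrArg (t • ·) hsy
      have e2 := congrArg (s • ·) htz
      simp only [smul_smul, smul_zero] at e1 e2
      rw [map_add, map_add, smul_add, e2, add_zero, mul_comm]
      exact e1
  · intro h q _ hq
    obtain ⟨p, hp, hpP, hpq⟩ := hlift q inferInstance hq
    haveI := hp
    rw [flatAt_iff]
    intro J y hy
    have h0 : J.subtype.lTensor N (Φ J (1 ⊗ₜ y)) = 0 := by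
      rw [hcomm, LinearMap.lTensor_tmul, show uM J y = 0 from hy, tmul_zero, map_zero]
    obtain ⟨t, ht, hty⟩ := (flatAt_iff p N).1 (h p hpP) J _ h0
    rw [← map_smul, LinearEquiv.map_eq_zero_iff] at hty
    by_contra hcon
    apply ht
    refine (Ideal.map_le_iff_le_comap.2 ?_) (mem_map_annihilator y t hty)
    intro s hs
    rw [hpq]
    by_contra hsq
    exact hcon ⟨s, hsq, hs⟩

/-- Flatness at a set of primes is unchanged by an integral ring map. -/
theorem flatAt_iff_of_integral [Algebra.IsIntegral B C] (e : M ≃ₗ[B] N)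
    (PB : Ideal B → Prop) (PC : Ideal C → Prop)
    (hcomap : ∀ p : Ideal C, p.IsPrime → PC p → PB (p.comap (algebraMap B C)))
    (hup : ∀ p : Ideal C, p.IsPrime → PB (p.comap (algebraMap B C)) → PC p) [IsScalarTower A B N] :
    (∀ (q : Ideal B) [q.IsPrime], PB q → FlatCA.FlatAt A q M) ↔
      (∀ (p : Ideal C) [p.IsPrime], PC p → FlatCA.FlatAt A p N) := by
  let Φ : ∀ (X : Type u) [AddCommGroup X] [Module A X], M ⊗[A] X ≃ₗ[B] N ⊗[A] X := fun X _ _ =>
    AlgebraTensorModule.congr e (LinearEquiv.refl A X)
  have hcomm : ∀ (J : Ideal A) (z : M ⊗[A] J),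
      J.subtype.lTensor N (Φ J z) = Φ A (J.subtype.lTensor M z) := by
    intro J z
    induction z using TensorProduct.induction_on with
    | zero => simp
    | tmul m j => simp [Φ]
    | add y z hy hz => simp only [map_add, hy, hz]
  constructor
  · intro h p _ hp
    haveI : (p.comap (algebraMap B C)).IsPrime := Ideal.IsPrime.comap _
    rw [flatAt_iff]
    intro J y hy
    obtain ⟨z, rfl⟩ := (Φ J).surjective y
    rw [hcomm, LinearEquiv.map_eq_zero_iff] at hy
    obtain ⟨s, hs, hsz⟩ := (flatAt_iff _ M).1 (h _ (hcomap p inferInstance hp)) J z hy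
    exact ⟨algebraMap B C s, hs, by rw [algebraMap_smul, ← map_smul, hsz, map_zero]⟩
  · intro h q _ hq
    rw [flatAt_iff]
    intro J z hz
    by_contra hcon
    let I : Ideal C := LinearMap.ker (LinearMap.toSpanSingleton C (N ⊗[A] J) (Φ J z))
    have hI : I.comap (algebraMap B C) ≤ q := by
      intro s hs
      by_contra hsq
      refine hcon ⟨s, hsq, (Φ J).map_eq_zero_iff.1 ?_⟩
      rw [map_smul, ← algebraMap_smul C s (Φ J z)]
      exact hs
    obtain ⟨p, hIp, hp, hpq⟩ := Ideal.exists_ideal_over_prime_of_isIntegral q I hI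
    haveI := hp
    obtain ⟨t, ht, htz⟩ := (flatAt_iff p N).1 (h p (hup p hp (hpq.symm ▸ hq))) J (Φ J z)
      (by rw [hcomm, hz, map_zero])
    exact ht (hIp htz)

end Groth.Agent.FlatAboveCP
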